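/-
Counting elements of prime order through the Sylow subgroups of that order.
-/
import Cfsg.Agent.H78.M22R.Counts
import Cfsg.Agent.H78.M22R.PartE

set_option autoImplicit false
set_option linter.style.haveILetI false

namespace H84.MTwelveNse

open Subgroup
open H78.M22R (cnt cz)

variable {G : Type*} [Group G] [Finite G] {p : ℕ} [hp : Fact p.Prime]

/-- The number of roots of unity of prime exponent. -/
theorem card_roots_prime (hd : p ∣ Nat.card G) : p ∣ cnt G p + 1 := by
  have h := H27.gcd_card_dvd_card_pow_eq_one G p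
  rw [Nat.gcd_eq_left hd, H78.M22R.card_roots_eq (T := (Nat.card G).divisors) (fun g =>
    Nat.mem_divisors.2 ⟨orderOf_dvd_natCard g, Nat.card_pos.ne'⟩)] at h
  have e : ((Nat.card G).divisors.filter (· ∣ p)) = {1, p} := by
    ext n
    simp only [Finset.mem_filter, Nat.mem_divisors, Finset.mem_insert, Finset.mem_singleton,
      Nat.dvd_prime hp.out]
    constructor
    · exact fun hn => hn.2
    · rintro (rfl | rfl)
      · exact ⟨⟨one_dvd _, Nat.card_pos.ne'⟩, Or.inl rfl⟩
      · exact ⟨⟨hd, Nat.card_pos.ne'⟩, Or.inr rfl⟩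
  rwa [e, Finset.sum_pair hp.out.one_lt.ne, H78.M22R.cnt_one, add_comm] at h

/-- With Sylow subgroups of prime order, elements of that order are counted by the index of a
normaliser. -/
theorem cnt_eq_index (hf : (Nat.card G).factorization p = 1) (P : Subgroup G)
    (hP : Nat.card P = p) :
    cnt G p = (p - 1) * (normalizer (P : Set G)).index := by
  classical
  have hS : ∀ Q : Sylow p G, Nat.card (Q : Subgroup G) = p := fun Q => by
    rw [Sylow.card_eq_multiplicity, hf, pow_one]
  let S : Sylow p G := Sylow.ofCard P (by rw [hP, hf, pow_one])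
  have hcoe : ∀ a : {g : G // orderOf g = p}, ∃ Q : Sylow p G, (Q : Subgroup G) = zpowers a.1 :=
    fun a => ⟨Sylow.ofCard (zpowers a.1) (by rw [Nat.card_zpowers, a.2, hf, pow_one]), rfl⟩
  have hn : (normalizer (P : Set G)).index = Nat.card (Sylow p G) :=
    (Sylow.card_eq_index_normalizer S).symm
  choose F hF using hcoe
  haveI : Fintype (Sylow p G) := Fintype.ofFinite _
  have hfib : ∀ Q : Sylow p G, Nat.card {a : {g : G // orderOf g = p} // F a = Q} = p - 1 := by
    intro Q
    haveI := Fintype.ofFinite G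
    have e : Nat.card {a : {g : G // orderOf g = p} // F a = Q} =
        Nat.card {g : G // g ∈ (Q : Subgroup G) ∧ g ≠ 1} := by
      refine Nat.card_congr
        { toFun := fun a => ⟨a.1.1, ?_, ?_⟩
          invFun := fun g => ⟨⟨g.1, ?_⟩, ?_⟩
          left_inv := fun a => rfl
          right_inv := fun g => rfl }
      · have h := hF a.1
        rw [a.2] at h
        rw [h]; exact mem_zpowers _
      · intro e; have := a.1.2; rw [e, orderOf_one] at this; exact hp.out.one_lt.ne this
      · have h := Subgroup.orderOf_dvd_natCard _ g.2.1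
        rw [hS Q] at h
        exact ((Nat.dvd_prime hp.out).1 h).resolve_left fun e => g.2.2 (orderOf_eq_one_iff.1 e)
      · apply Sylow.ext
        rw [hF]
        refine Subgroup.eq_of_le_of_card_ge (zpowers_le.2 g.2.1) ?_
        have ho : orderOf g.1 = p := ((Nat.dvd_prime hp.out).1
          ((Subgroup.orderOf_dvd_natCard _ g.2.1).trans (hS Q).dvd)).resolve_left
            fun e => g.2.2 (orderOf_eq_one_iff.1 e)
        rw [Nat.card_zpowers]
        exact le_of_eq ((hS Q).trans ho.symm)
    rw [e, Nat.card_eq_fintype_card, Fintype.card_subtype]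
    have e2 : (Finset.univ.filter fun g : G => g ∈ (Q : Subgroup G) ∧ g ≠ 1) =
        (Finset.univ.filter fun g : G => g ∈ (Q : Subgroup G)).erase 1 := by
      ext g; simp [and_comm]
    rw [e2, Finset.card_erase_of_mem (by simp [one_mem]), ← Fintype.card_subtype,
      ← Nat.card_eq_fintype_card, hS Q]
  rw [hn, cnt, ← Nat.card_congr (Equiv.sigmaFiberEquiv F), Nat.card_sigma,
    Finset.sum_congr rfl fun Q _ => hfib Q, Finset.sum_const, smul_eq_mul, Finset.card_univ,
    Nat.card_eq_fintype_card, mul_comm]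

/-- The centraliser of an element of prime order is normal in the normaliser of its group, and has
index at most `p - 1` there. -/
theorem cz_bound {z : G} (hz : orderOf z = p) :
    cz z ≤ normalizer (zpowers z : Set G) ∧
      Nat.card (normalizer (zpowers z : Set G)) ≤ (p - 1) * Nat.card (cz z) := by
  classical
  haveI := Fintype.ofFinite G
  have hle : cz z ≤ normalizer (zpowers z : Set G) := by
    intro g hg
    refine H78.M22R.mem_normalizer_of fun e he => ?_
    obtain ⟨i, rfl⟩ := mem_zpowers_iff.1 he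
    rw [((H78.M22R.mem_cz.1 hg).zpow_right i).eq, mul_inv_cancel_right]
    exact he
  refine ⟨hle, ?_⟩
  have h := H78.M22R.card_conj_orbit (normalizer (zpowers z : Set G)) z
  rw [inf_eq_right.2 hle] at h
  rw [← h]
  refine Nat.mul_le_mul_right _ ?_
  have e2 : (Finset.univ.filter fun g : G => g ∈ zpowers z ∧ g ≠ 1) =
      (Finset.univ.filter fun g : G => g ∈ zpowers z).erase 1 := by
    ext g; simp [and_comm]
  have hc : Nat.card {g : G // g ∈ zpowers z ∧ g ≠ 1} = p - 1 := by
    rw [Nat.card_eq_fintype_card, Fintype.card_subtype, e2,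
      Finset.card_erase_of_mem (by simp [one_mem]), ← Fintype.card_subtype,
      ← Nat.card_eq_fintype_card, Nat.card_zpowers, hz]
  rw [← hc]
  refine Nat.card_le_card_of_injective (fun v => (⟨v.1, ?_⟩ : {g : G // g ∈ zpowers z ∧ g ≠ 1})) ?_
  · obtain ⟨n, hn, e⟩ := v.2
    rw [← e]
    refine ⟨(mem_normalizer_iff.1 hn z).1 (mem_zpowers z), fun e' => ?_⟩
    rw [conj_eq_one_iff] at e'
    rw [e', orderOf_one] at hz
    exact hp.out.one_lt.ne hz
  · intro u v e
    exact Subtype.ext (congrArg (fun w : {g : G // g ∈ zpowers z ∧ g ≠ 1} => w.1) e)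

omit hp in
/-- Elements of order `p * n` are pairs of commuting elements of orders `p` and `n`. -/
theorem cnt_mul_eq {n : ℕ} (hcop : p.Coprime n) (hn : 0 < n) (hp0 : 0 < p) :
    cnt G (p * n) =
      Nat.card (Σ z : {g : G // orderOf g = p}, {v : G // orderOf v = n ∧ Commute v z.1}) := by
  obtain ⟨a, ha0, ha1⟩ := Nat.chineseRemainder hcop 1 0
  obtain ⟨b, hb0, hb1⟩ := Nat.chineseRemainder hcop 0 1
  have hab : a + b ≡ 1 [MOD p * n] := (Nat.modEq_and_modEq_iff_modEq_mul hcop).1
    ⟨by simpa using ha0.add hb0, by simpa using ha1.add hb1⟩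
  have hpow : ∀ {g : G} {m i j : ℕ}, orderOf g ∣ m → i ≡ j [MOD m] → g ^ i = g ^ j := fun hd h =>
    pow_eq_pow_iff_modEq.2 (h.of_dvd hd)
  have key : ∀ {z v : G}, orderOf z = p → orderOf v = n → Commute v z →
      orderOf (z * v) = p * n ∧ (z * v) ^ a = z ∧ (z * v) ^ b = v := by
    intro z v hz hv hc
    refine ⟨?_, ?_, ?_⟩
    · rw [hc.symm.orderOf_mul_eq_mul_orderOf_of_coprime (by rw [hz, hv]; exact hcop), hz, hv]
    · rw [hc.symm.mul_pow, hpow hz.dvd ha0, hpow hv.dvd ha1, pow_one, pow_zero, mul_one]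
    · rw [hc.symm.mul_pow, hpow hz.dvd hb0, hpow hv.dvd hb1, pow_one, pow_zero, one_mul]
  have hord : ∀ {g : G}, orderOf g = p * n → orderOf (g ^ a) = p ∧ orderOf (g ^ b) = n := by
    intro g hg
    have h1 : g ^ (a + b) = g := (hpow hg.dvd hab).trans (pow_one g)
    have hap : orderOf (g ^ a) ∣ p := by
      apply orderOf_dvd_of_pow_eq_one
      rw [← pow_mul]
      refine orderOf_dvd_iff_pow_eq_one.1 ?_
      rw [hg, mul_comm p n]
      exact mul_dvd_mul_right (Nat.modEq_zero_iff_dvd.1 ha1) p
    have hbn : orderOf (g ^ b) ∣ n := by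
      apply orderOf_dvd_of_pow_eq_one
      rw [← pow_mul]
      refine orderOf_dvd_iff_pow_eq_one.1 ?_
      rw [hg]
      exact mul_dvd_mul_right (Nat.modEq_zero_iff_dvd.1 hb0) n
    have hm := ((Commute.refl g).pow_pow a b).orderOf_mul_eq_mul_orderOf_of_coprime
      ((hcop.coprime_dvd_left hap).coprime_dvd_right hbn)
    rw [← pow_add, h1, hg] at hm
    obtain ⟨u, hu⟩ := hap
    obtain ⟨w, hw⟩ := hbn
    have h2 : orderOf (g ^ a) * orderOf (g ^ b) * 1 = orderOf (g ^ a) * orderOf (g ^ b) * (u * w) := by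
      rw [mul_one]
      calc _ = p * n := hm.symm
        _ = orderOf (g ^ a) * u * (orderOf (g ^ b) * w) := by rw [← hu, ← hw]
        _ = _ := by ring
    have huw := Nat.eq_of_mul_eq_mul_left (Nat.mul_pos (orderOf_pos _) (orderOf_pos _)) h2
    rw [Nat.eq_one_of_mul_eq_one_right huw.symm, mul_one] at hu
    rw [Nat.eq_one_of_mul_eq_one_left huw.symm, mul_one] at hw
    exact ⟨hu.symm, hw.symm⟩
  refine Nat.card_congr
    { toFun := fun g => ⟨⟨g.1 ^ a, (hord g.2).1⟩, ⟨g.1 ^ b, (hord g.2).2,
        (Commute.refl g.1).pow_pow b a⟩⟩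
      invFun := fun x => ⟨x.1.1 * x.2.1, (key x.1.2 x.2.2.1 x.2.2.2).1⟩
      left_inv := fun g => Subtype.ext ?_
      right_inv := ?_ }
  · show g.1 ^ a * g.1 ^ b = g.1
    rw [← pow_add]
    exact (hpow g.2.dvd hab).trans (pow_one _)
  · rintro ⟨⟨z, hz⟩, ⟨v, hv, hc⟩⟩
    obtain ⟨-, ea, eb⟩ := key hz hv hc
    exact Sigma.subtype_ext (Subtype.ext ea) eb

/-- With Sylow subgroups of prime order the commuting elements of any order are as many for each
element of that order. -/
theorem card_commuting_eq (hf : (Nat.card G).factorization p = 1) {z z' : G} (hz : orderOf z = p)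
    (hz' : orderOf z' = p) (n : ℕ) :
    Nat.card {v : G // orderOf v = n ∧ Commute v z'} =
      Nat.card {v : G // orderOf v = n ∧ Commute v z} := by
  have hs : ∀ a : G, orderOf a = p → ∃ S : Sylow p G, (S : Subgroup G) = zpowers a := fun a ha =>
    ⟨Sylow.ofCard (zpowers a) (by rw [Nat.card_zpowers, ha, hf, pow_one]), rfl⟩
  obtain ⟨S, hS⟩ := hs z hz
  obtain ⟨S', hS'⟩ := hs z' hz'
  obtain ⟨g, hg⟩ := MulAction.exists_smul_eq G S S'
  have hmem : g * z * g⁻¹ ∈ zpowers z' := by
    rw [← hS', ← hg, Sylow.coe_subgroup_smul]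
    exact ⟨z, hS.ge (mem_zpowers z), rfl⟩
  have heq : zpowers (g * z * g⁻¹) = zpowers z' := eq_of_le_of_card_ge (zpowers_le.2 hmem)
    (by rw [Nat.card_zpowers, Nat.card_zpowers, H78.M22R.orderOf_conj', hz, hz'])
  have hcz : cz (g * z * g⁻¹) = cz z' := by
    show centralizer ({g * z * g⁻¹} : Set G) = centralizer ({z'} : Set G)
    rw [← centralizer_closure, ← centralizer_closure ({z'} : Set G), ← zpowers_eq_closure,
      ← zpowers_eq_closure, heq]
  refine (Nat.card_congr ((MulAut.conj g).toEquiv.subtypeEquiv fun v => ?_)).symm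
  show orderOf v = n ∧ Commute v z ↔ orderOf (g * v * g⁻¹) = n ∧ Commute (g * v * g⁻¹) z'
  rw [H78.M22R.orderOf_conj', ← H78.M22R.mem_cz, ← H78.M22R.mem_cz (x := z'), ← hcz,
    H78.M22R.mem_cz, H78.M22R.mem_cz, H78.M22R.commute_conj_iff]

end H84.MTwelveNse
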