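/-
The order and the numbers of elements of each order give the basic facts of M12.
-/
import Cfsg.Agent.H84.MTwelveNse.Prime
import Cfsg.Agent.H37.MTwelveNse.Base
import Mathlib.Tactic.NormNum.Prime

set_option autoImplicit false
set_option linter.style.haveILetI false

namespace H84.MTwelveNse

open Subgroup
open H78.M22R (cnt cz)
open H37.MTwelveNse (Facts nseSet)

variable {G : Type*} [Group G] [Finite G]

theorem val_cases (hval : ∀ n, 0 < cnt G n → cnt G n ∈ nseSet) (n : ℕ) :
    cnt G n = 0 ∨ cnt G n = 1 ∨ cnt G n = 891 ∨ cnt G n = 4400 ∨ cnt G n = 5940 ∨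
      cnt G n = 9504 ∨ cnt G n = 17280 ∨ cnt G n = 23760 := by
  rcases Nat.eq_zero_or_pos (cnt G n) with h | h
  · exact Or.inl h
  · exact Or.inr (by simpa [nseSet] using hval n h)

theorem val_big (hval : ∀ n, 0 < cnt G n → cnt G n ∈ nseSet) {n : ℕ} (hn : 2 < n) :
    cnt G n = 0 ∨ cnt G n = 4400 ∨ cnt G n = 5940 ∨
      cnt G n = 9504 ∨ cnt G n = 17280 ∨ cnt G n = 23760 := by
  have he := H78.M22R.even_cnt (G := G) hn
  rw [Nat.even_iff] at he
  have h := val_cases hval n
  omega

theorem factorization_facts :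
    (95040 : ℕ).factorization 5 = 1 ∧ (95040 : ℕ).factorization 11 = 1 := by
  constructor
  · rw [show (95040 : ℕ) = 5 ^ 1 * 19008 by norm_num, Nat.factorization_mul (by norm_num)
      (by norm_num), (show Nat.Prime 5 by norm_num).factorization_pow]
    simp [Nat.factorization_eq_zero_of_not_dvd (show ¬ 5 ∣ 19008 by norm_num)]
  · rw [show (95040 : ℕ) = 11 ^ 1 * 8640 by norm_num, Nat.factorization_mul (by norm_num)
      (by norm_num), (show Nat.Prime 11 by norm_num).factorization_pow]
    simp [Nat.factorization_eq_zero_of_not_dvd (show ¬ 11 ∣ 8640 by norm_num)]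

/-- What the Sylow subgroups of orders five and eleven give. -/
theorem local_of_nse (hcard : Nat.card G = 95040)
    (hval : ∀ n, 0 < cnt G n → cnt G n ∈ nseSet) :
    cnt G 3 = 4400 ∧ cnt G 5 = 9504 ∧ cnt G 11 = 17280 ∧ cnt G 10 = 9504 ∧
    (∀ P : Subgroup G, Nat.card P = 5 → Nat.card (normalizer (P : Set G)) = 40) ∧
    (∀ P : Subgroup G, Nat.card P = 11 → Nat.card (normalizer (P : Set G)) = 55) ∧
    (∀ z : G, orderOf z = 5 → Nat.card (cz z) = 10) ∧
    (∀ z : G, orderOf z = 11 → Nat.card (cz z) = 11) := by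
  classical
  haveI : Fact (Nat.Prime 2) := ⟨Nat.prime_two⟩
  haveI : Fact (Nat.Prime 3) := ⟨Nat.prime_three⟩
  haveI : Fact (Nat.Prime 5) := ⟨by norm_num⟩
  haveI : Fact (Nat.Prime 11) := ⟨by norm_num⟩
  have hex : ∀ (p : ℕ) [Fact p.Prime], p ∣ 95040 → 0 < cnt G p := fun p _ hd => by
    obtain ⟨g, hg⟩ := exists_prime_orderOf_dvd_card' (G := G) p (hcard ▸ hd)
    exact H78.M22R.cnt_pos.2 ⟨g, hg⟩
  have c3 : cnt G 3 = 4400 := by
    have h := card_roots_prime (G := G) (p := 3) (by rw [hcard]; norm_num)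
    have := hex 3 (by norm_num)
    have := val_big hval (n := 3) (by norm_num)
    omega
  have c5 : cnt G 5 = 9504 := by
    have h := card_roots_prime (G := G) (p := 5) (by rw [hcard]; norm_num)
    have := hex 5 (by norm_num)
    have := val_big hval (n := 5) (by norm_num)
    omega
  have c11 : cnt G 11 = 17280 := by
    have h := card_roots_prime (G := G) (p := 11) (by rw [hcard]; norm_num)
    have := hex 11 (by norm_num)
    have := val_big hval (n := 11) (by norm_num)
    omega
  have f5 : (Nat.card G).factorization 5 = 1 := by rw [hcard]; exact factorization_facts.1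
  have f11 : (Nat.card G).factorization 11 = 1 := by rw [hcard]; exact factorization_facts.2
  have n5 : ∀ P : Subgroup G, Nat.card P = 5 → Nat.card (normalizer (P : Set G)) = 40 := by
    intro P hP
    have h := cnt_eq_index f5 P hP
    have h' := (normalizer (P : Set G)).card_mul_index
    rw [c5] at h
    rw [show (normalizer (P : Set G)).index = 2376 by omega, hcard] at h'
    omega
  have n11 : ∀ P : Subgroup G, Nat.card P = 11 → Nat.card (normalizer (P : Set G)) = 55 := by
    intro P hP
    have h := cnt_eq_index f11 P hP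
    have h' := (normalizer (P : Set G)).card_mul_index
    rw [c11] at h
    rw [show (normalizer (P : Set G)).index = 1728 by omega, hcard] at h'
    omega
  have hdvd : ∀ {z : G}, orderOf z = 5 → Nat.card (cz z) ∣ 40 := fun {z} hz => by
    rw [← n5 (zpowers z) (by rw [Nat.card_zpowers, hz])]
    exact card_dvd_of_le (cz_bound hz).1
  have h11 : ∀ z : G, orderOf z = 11 → Nat.card (cz z) = 11 := by
    intro z hz
    have hd : Nat.card (cz z) ∣ 55 := by
      rw [← n11 (zpowers z) (by rw [Nat.card_zpowers, hz])]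
      exact card_dvd_of_le (cz_bound hz).1
    have h11 : 11 ∣ Nat.card (cz z) := hz ▸ Subgroup.orderOf_dvd_natCard (cz z)
      (H78.M22R.mem_cz.2 (Commute.refl z))
    have h5 : ¬ 5 ∣ Nat.card (cz z) := by
      intro h
      obtain ⟨w, hw, hwo⟩ := H78.M22R.exists_orderOf 5 h
      have h' := (Subgroup.orderOf_dvd_natCard (cz w)
        (H78.M22R.mem_cz.2 (H78.M22R.mem_cz.1 hw).symm)).trans (hdvd hwo)
      rw [hz] at h'
      norm_num at h'
    have hm : Nat.card (cz z) ∈ Nat.divisors 55 := Nat.mem_divisors.2 ⟨hd, by norm_num⟩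
    rw [show Nat.divisors 55 = {1, 5, 11, 55} by decide] at hm
    simp only [Finset.mem_insert, Finset.mem_singleton] at hm
    omega
  -- the centraliser of an element of order five
  obtain ⟨z₀, hz₀⟩ := exists_prime_orderOf_dvd_card' (G := G) 5 (by rw [hcard]; norm_num)
  have hk : ∀ n, 0 < n → Nat.Coprime 5 n →
      cnt G (5 * n) = 9504 * Nat.card {v : G // orderOf v = n ∧ Commute v z₀} := by
    intro n hn hcop
    haveI := Fintype.ofFinite G
    rw [cnt_mul_eq hcop hn (by norm_num), Nat.card_sigma,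
      Finset.sum_congr rfl (fun z _ => card_commuting_eq f5 hz₀ z.2 n), Finset.sum_const,
      smul_eq_mul, Finset.card_univ, ← Nat.card_eq_fintype_card]
    exact congrArg (· * _) c5
  have hsame : ∀ z : G, orderOf z = 5 → ∀ n,
      Nat.card {v : G // orderOf v = n ∧ Commute v z} =
        Nat.card {v : G // orderOf v = n ∧ Commute v z₀} := fun z hz n =>
    card_commuting_eq f5 hz₀ hz n
  have h10 : ∀ z : G, orderOf z = 5 → 10 ≤ Nat.card (cz z) := fun z hz => by
    have h := (cz_bound hz).2
    rw [n5 (zpowers z) (by rw [Nat.card_zpowers, hz])] at h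
    omega
  have k2pos : ∀ z : G, orderOf z = 5 → 0 < Nat.card {v : G // orderOf v = 2 ∧ Commute v z} := by
    intro z hz
    have h2 : 2 ∣ Nat.card (cz z) := by
      have hd := hdvd hz
      have hm : Nat.card (cz z) ∈ Nat.divisors 40 := Nat.mem_divisors.2 ⟨hd, by norm_num⟩
      rw [show Nat.divisors 40 = {1, 2, 4, 5, 8, 10, 20, 40} by decide] at hm
      have := h10 z hz
      simp only [Finset.mem_insert, Finset.mem_singleton] at hm
      omega
    obtain ⟨v, hv, hvo⟩ := H78.M22R.exists_orderOf 2 h2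
    haveI : Nonempty {v : G // orderOf v = 2 ∧ Commute v z} := ⟨⟨v, hvo, H78.M22R.mem_cz.1 hv⟩⟩
    exact Nat.card_pos
  have k2 : Nat.card {v : G // orderOf v = 2 ∧ Commute v z₀} = 1 := by
    have h := hk 2 (by norm_num) (by norm_num)
    have := k2pos z₀ hz₀
    have := val_big hval (n := 5 * 2) (by norm_num)
    omega
  have k4 : Nat.card {v : G // orderOf v = 4 ∧ Commute v z₀} = 0 := by
    by_contra hne
    have h := hk 4 (by norm_num) (by norm_num)
    have hv := val_big hval (n := 5 * 4) (by norm_num)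
    have h1 : Nat.card {v : G // orderOf v = 4 ∧ Commute v z₀} = 1 := by omega
    obtain ⟨hs, ⟨⟨v, hv4, hvc⟩⟩⟩ := Nat.card_eq_one_iff_unique.1 h1
    have hinv : v⁻¹ = v := congrArg Subtype.val (hs.elim
      (⟨v⁻¹, by rw [orderOf_inv, hv4], hvc.inv_left⟩ :
        {v : G // orderOf v = 4 ∧ Commute v z₀}) ⟨v, hv4, hvc⟩)
    have h2 : v ^ 2 = 1 := by rw [pow_two]; nth_rw 2 [← hinv]; exact mul_inv_cancel v
    have := Nat.le_of_dvd (by norm_num) (orderOf_dvd_of_pow_eq_one h2)
    omega
  have h5 : ∀ z : G, orderOf z = 5 → Nat.card (cz z) = 10 := by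
    intro z hz
    have hd := hdvd hz
    have hm : Nat.card (cz z) ∈ Nat.divisors 40 := Nat.mem_divisors.2 ⟨hd, by norm_num⟩
    rw [show Nat.divisors 40 = {1, 2, 4, 5, 8, 10, 20, 40} by decide] at hm
    have := h10 z hz
    simp only [Finset.mem_insert, Finset.mem_singleton] at hm
    by_contra hne
    have h4 : 2 ^ 2 ∣ Nat.card (cz z) := by omega
    obtain ⟨Q, hQ⟩ := Sylow.exists_subgroup_card_pow_prime (G := cz z) 2 h4
    have hmem : ∀ q : Q, (q : cz z) ≠ 1 → orderOf ((q : cz z) : G) = 2 := by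
      intro q hq1
      have h := Subgroup.orderOf_dvd_natCard Q q.2
      rw [hQ] at h
      obtain ⟨k, hk2', hk'⟩ := (Nat.dvd_prime_pow Nat.prime_two).1 h
      rw [← Subgroup.orderOf_coe] at hk'
      interval_cases k
      · exact absurd (Subtype.ext (orderOf_eq_one_iff.1 (by simpa using hk'))) hq1
      · simpa using hk'
      · exfalso
        have hs := hsame z hz 4
        rw [k4] at hs
        haveI : Nonempty {v : G // orderOf v = 4 ∧ Commute v z} :=
          ⟨⟨_, by simpa using hk', H78.M22R.mem_cz.1 (q : cz z).2⟩⟩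
        exact Nat.card_pos.ne' hs
    have hle : Nat.card {q : Q // (q : cz z) ≠ 1} ≤
        Nat.card {v : G // orderOf v = 2 ∧ Commute v z} := by
      refine Nat.card_le_card_of_injective (fun q => ⟨((q.1 : cz z) : G), hmem q.1 q.2,
        H78.M22R.mem_cz.1 (q.1 : cz z).2⟩) fun q r e => ?_
      exact Subtype.ext (Subtype.ext (Subtype.ext (congrArg
        (fun w : {v : G // orderOf v = 2 ∧ Commute v z} => w.1) e)))
    rw [hsame z hz 2, k2] at hle
    haveI := Fintype.ofFinite Q
    have e : Nat.card {q : Q // (q : cz z) ≠ 1} = 3 := by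
      have e2 : (Finset.univ.filter fun q : Q => (q : cz z) ≠ 1) = Finset.univ.erase 1 := by
        ext q; simp
      rw [Nat.card_eq_fintype_card, Fintype.card_subtype, e2,
        Finset.card_erase_of_mem (Finset.mem_univ _), Finset.card_univ, ← Nat.card_eq_fintype_card, hQ]
      norm_num
    omega
  have c10 : cnt G 10 = 9504 := by
    have h := hk 2 (by norm_num) (by norm_num)
    rw [k2] at h
    simpa using h
  exact ⟨c3, c5, c11, c10, n5, n11, h5, h11⟩

theorem arith_split {a b y : ℕ} (h1 : 64 ∣ 892 + 5940 * a) (h2 : 192 ∣ 5292 + 5940 * (a + b))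
    (h3 : a + b + y = 9) : a = 5 ∧ b = 4 := by
  have : a ≤ 9 := by omega
  have : b ≤ 9 := by omega
  interval_cases a <;> interval_cases b <;> first
    | omega
    | (norm_num at h1; done)
    | (norm_num at h2; done)

theorem arith_two {a b c d e : ℕ} (h : 32 ∣ 892 + 5940 * (a + b + c + d)) (hs : a + b + c + d + e = 5)
    (va : a = 0 ∨ a = 1 ∨ a = 4) (vb : b = 0 ∨ b = 1 ∨ b = 4) (vc : c = 0 ∨ c = 1 ∨ c = 4)
    (vd : d = 0 ∨ d = 1 ∨ d = 4) (ve : e = 0 ∨ e = 1 ∨ e = 4) (mb : 0 < b → 0 < a)
    (mc : 0 < c → 0 < b) (md : 0 < d → 0 < c) (me : 0 < e → 0 < d) :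
    c = 0 ∧ d = 0 ∧ e = 0 := by
  rcases va with rfl | rfl | rfl <;> rcases vb with rfl | rfl | rfl <;>
    rcases vc with rfl | rfl | rfl <;> rcases vd with rfl | rfl | rfl <;>
    rcases ve with rfl | rfl | rfl <;> first
    | exact ⟨rfl, rfl, rfl⟩
    | omega

theorem arith_six {a b c : ℕ} (va : a = 0 ∨ a = 1 ∨ a = 4) (vb : b = 0 ∨ b = 1 ∨ b = 4)
    (vc : c = 0 ∨ c = 1 ∨ c = 4) (mb : 0 < b → 0 < a) (mc : 0 < c → 0 < b) (h : a + b + c = 4) :
    a = 4 ∧ b = 0 ∧ c = 0 := by
  rcases va with rfl | rfl | rfl <;> rcases vb with rfl | rfl | rfl <;>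
    rcases vc with rfl | rfl | rfl <;> omega

/-- The orders that can occur. -/
def ordSet : Finset ℕ := {1, 2, 3, 5, 10, 11, 4, 8, 16, 32, 64, 6, 12, 24, 48, 96, 192,
  9, 18, 36, 72, 144, 288, 576, 27, 54, 108, 216, 432, 864, 1728}

/-- The orders other than the six with known counts. -/
def restSet : Finset ℕ := {4, 8, 16, 32, 64, 6, 12, 24, 48, 96, 192,
  9, 18, 36, 72, 144, 288, 576, 27, 54, 108, 216, 432, 864, 1728}

theorem orders_of_nse (hcard : Nat.card G = 95040)
    (hnse : {c : ℕ | 0 < c ∧ ∃ n : ℕ, c = Nat.card {g : G // orderOf g = n}} = nseSet) :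
    cnt G 2 = 891 ∧ cnt G 6 = 23760 ∧
    ∀ g : G, orderOf g ∈ ({1, 2, 3, 4, 5, 6, 8, 10, 11} : Finset ℕ) := by
  classical
  have hval : ∀ n, 0 < cnt G n → cnt G n ∈ nseSet := fun n hn => hnse ▸ ⟨hn, n, rfl⟩
  have hatt : ∀ v ∈ nseSet, ∃ n, cnt G n = v := fun v hv => by
    rw [← hnse] at hv
    exact hv.2.imp fun n h => h.symm
  have h2 : cnt G 2 = 891 := by
    obtain ⟨n, hn⟩ := hatt 891 (by simp [nseSet])
    rcases (by omega : n = 0 ∨ n = 1 ∨ n = 2 ∨ 2 < n) with rfl | rfl | rfl | h
    · rw [H78.M22R.cnt_zero] at hn; omega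
    · rw [H78.M22R.cnt_one] at hn; omega
    · exact hn
    · have := H78.M22R.even_cnt (G := G) h
      rw [hn] at this; exact absurd this (by decide)
  obtain ⟨c3, c5, c11, c10, -, -, h5, h11⟩ := local_of_nse hcard hval
  have c1 := H78.M22R.cnt_one (G := G)
  have hT : ∀ g : G, orderOf g ∈ ordSet := by
    intro g
    have hd : orderOf g ∣ 95040 := hcard ▸ orderOf_dvd_natCard g
    have hpos := orderOf_pos g
    have hpart : ∀ p, p ∣ orderOf g → 0 < p → orderOf (g ^ (orderOf g / p)) = p ∧
        g ∈ cz (g ^ (orderOf g / p)) := fun p hp hp0 => ⟨by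
      rw [orderOf_pow' g (Nat.div_pos (Nat.le_of_dvd hpos hp) hp0).ne',
        Nat.gcd_eq_right (Nat.div_dvd_of_dvd hp), Nat.div_div_self hp hpos.ne'],
      H78.M22R.mem_cz.2 ((Commute.refl g).pow_right _)⟩
    by_cases h11' : 11 ∣ orderOf g
    · obtain ⟨ho, hm⟩ := hpart 11 h11' (by norm_num)
      have h := Subgroup.orderOf_dvd_natCard _ hm
      rw [h11 _ ho] at h
      rcases (Nat.dvd_prime (by norm_num)).1 h with e | e
      · omega
      · rw [e]; decide
    by_cases h5' : 5 ∣ orderOf g
    · obtain ⟨ho, hm⟩ := hpart 5 h5' (by norm_num)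
      have h := Subgroup.orderOf_dvd_natCard _ hm
      rw [h5 _ ho] at h
      have hm' : orderOf g ∈ Nat.divisors 10 := Nat.mem_divisors.2 ⟨h, by norm_num⟩
      exact (show Nat.divisors 10 ⊆ ordSet by decide) hm'
    have hcop : Nat.Coprime (orderOf g) 55 := by
      rw [show (55 : ℕ) = 5 * 11 by norm_num]
      exact ((Nat.Prime.coprime_iff_not_dvd (by norm_num)).2 h5').symm.mul_right
        ((Nat.Prime.coprime_iff_not_dvd (by norm_num)).2 h11').symm
    have h1728 : orderOf g ∣ 1728 := hcop.dvd_of_dvd_mul_right (by rwa [show 1728 * 55 = 95040 from rfl])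
    exact (show Nat.divisors 1728 ⊆ ordSet by decide +kernel)
      (Nat.mem_divisors.2 ⟨h1728, by norm_num⟩)
  have hroots : ∀ m, m ∣ 95040 → m ∣ ∑ n ∈ ordSet.filter (· ∣ m), cnt G n := by
    intro m hm
    have h := H27.gcd_card_dvd_card_pow_eq_one G m
    rw [Nat.gcd_eq_left (hcard ▸ hm), H78.M22R.card_roots_eq hT] at h
    exact h
  have htot : ∑ n ∈ ordSet, cnt G n = 95040 := by
    have h := H78.M22R.card_roots_eq hT (Nat.card G)
    rw [Finset.filter_true_of_mem fun n hn => ?_] at h
    · rw [← h, ← hcard]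
      exact Nat.card_congr (Equiv.subtypeUnivEquiv fun g => pow_card_eq_one')
    · rw [hcard]
      exact (show ∀ n ∈ ordSet, n ∣ 95040 by decide) n hn
  have hrest : ∑ n ∈ restSet, cnt G n = 53460 := by
    rw [show ordSet = insert 1 (insert 2 (insert 3 (insert 5 (insert 10 (insert 11 restSet))))) from
        rfl, Finset.sum_insert (by decide), Finset.sum_insert (by decide),
      Finset.sum_insert (by decide), Finset.sum_insert (by decide), Finset.sum_insert (by decide),
      Finset.sum_insert (by decide), c1, h2, c3, c5, c10, c11] at htot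
    omega
  have hv : ∀ n ∈ restSet, cnt G n = 0 ∨ cnt G n = 4400 ∨ cnt G n = 5940 ∨
      cnt G n = 9504 ∨ cnt G n = 17280 ∨ cnt G n = 23760 := fun n hn =>
    val_big hval ((show ∀ n ∈ restSet, 2 < n by decide) n hn)
  -- the multiplicities of the values
  let ind : ℕ → ℕ → ℕ := fun v n => if cnt G n = v then 1 else 0
  have hsplit : ∑ n ∈ restSet, cnt G n = 4400 * ∑ n ∈ restSet, ind 4400 n +
      5940 * ∑ n ∈ restSet, ind 5940 n + 9504 * ∑ n ∈ restSet, ind 9504 n +
      17280 * ∑ n ∈ restSet, ind 17280 n + 23760 * ∑ n ∈ restSet, ind 23760 n := by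
    simp only [Finset.mul_sum, ← Finset.sum_add_distrib]
    refine Finset.sum_congr rfl fun n hn => ?_
    rcases hv n hn with h | h | h | h | h | h <;> simp [ind, h]
  have hrest_of : ∀ v, v = 5940 ∨ v = 23760 → 1 ≤ ∑ n ∈ restSet, ind v n := by
    intro v hv'
    obtain ⟨n, hn⟩ := hatt v (by rcases hv' with rfl | rfl <;> simp [nseSet])
    obtain ⟨g, hg⟩ := H78.M22R.cnt_pos.1 (show 0 < cnt G n by omega)
    have hnT : n ∈ ordSet := hg ▸ hT g
    have hnR : n ∈ restSet := by
      simp only [ordSet, restSet, Finset.mem_insert, Finset.mem_singleton] at hnT ⊢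
      rcases hnT with rfl | rfl | rfl | rfl | rfl | rfl | h
      all_goals first
        | omega
        | exact h
    refine le_trans (by simp [ind, hn]) (Finset.single_le_sum (fun i _ => Nat.zero_le (ind v i)) hnR)
  have hone : ∀ v, ∑ n ∈ restSet, ind v n = 0 → ∀ n ∈ restSet, cnt G n ≠ v := by
    intro v h n hn e
    have := (Finset.sum_eq_zero_iff.1 h) n hn
    simp [ind, e] at this
  have hPQ := hrest_of 5940 (Or.inl rfl)
  have hPU := hrest_of 23760 (Or.inr rfl)
  rw [hrest] at hsplit
  have hz4400 : ∑ n ∈ restSet, ind 4400 n = 0 := by omega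
  have hz9504 : ∑ n ∈ restSet, ind 9504 n = 0 := by omega
  have hz17280 : ∑ n ∈ restSet, ind 17280 n = 0 := by omega
  obtain ⟨k, hk⟩ : ∃ k : ℕ → ℕ, ∀ n, k n = cnt G n / 5940 := ⟨_, fun _ => rfl⟩
  have hkv : ∀ n ∈ restSet, cnt G n = 5940 * k n ∧ (k n = 0 ∨ k n = 1 ∨ k n = 4) := by
    intro n hn
    have := hone _ hz4400 n hn
    have := hone _ hz9504 n hn
    have := hone _ hz17280 n hn
    rcases hv n hn with h | h | h | h | h | h <;> simp [hk, h] at *
  have hK : ∑ n ∈ restSet, k n = 9 := by
    have h : ∑ n ∈ restSet, 5940 * k n = 53460 := by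
      rw [← hrest]
      exact Finset.sum_congr rfl fun n hn => (hkv n hn).1.symm
    rw [← Finset.mul_sum] at h
    omega
  have hexp : ∀ S : Finset ℕ, S ⊆ restSet →
      ∑ n ∈ S, cnt G n = 5940 * ∑ n ∈ S, k n := fun S hS => by
    rw [Finset.mul_sum]
    exact Finset.sum_congr rfl fun n hn => (hkv n (hS hn)).1
  -- three congruences
  have h64 : 64 ∣ 892 + 5940 * (k 4 + k 8 + k 16 + k 32 + k 64) := by
    have h := hroots 64 (by norm_num)
    rw [show ordSet.filter (· ∣ 64) = {1, 2, 4, 8, 16, 32, 64} by decide] at h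
    simp only [Finset.sum_insert (show (1 : ℕ) ∉ ({2, 4, 8, 16, 32, 64} : Finset ℕ) by decide),
      Finset.sum_insert (show (2 : ℕ) ∉ ({4, 8, 16, 32, 64} : Finset ℕ) by decide), c1, h2] at h
    rw [hexp {4, 8, 16, 32, 64} (by decide)] at h
    simp at h
    convert h using 1
    ring
  have h32 : 32 ∣ 892 + 5940 * (k 4 + k 8 + k 16 + k 32) := by
    have h := hroots 32 (by norm_num)
    rw [show ordSet.filter (· ∣ 32) = {1, 2, 4, 8, 16, 32} by decide] at h
    simp only [Finset.sum_insert (show (1 : ℕ) ∉ ({2, 4, 8, 16, 32} : Finset ℕ) by decide),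
      Finset.sum_insert (show (2 : ℕ) ∉ ({4, 8, 16, 32} : Finset ℕ) by decide), c1, h2] at h
    rw [hexp {4, 8, 16, 32} (by decide)] at h
    simp at h
    convert h using 1
    ring
  have h192 : 192 ∣ 5292 + 5940 * ((k 4 + k 8 + k 16 + k 32 + k 64) +
      (k 6 + k 12 + k 24 + k 48 + k 96 + k 192)) := by
    have h := hroots 192 (by norm_num)
    rw [show ordSet.filter (· ∣ 192) = {1, 2, 3, 4, 8, 16, 32, 64, 6, 12, 24, 48, 96, 192} by
      decide] at h
    simp only [Finset.sum_insert (show (1 : ℕ) ∉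
        ({2, 3, 4, 8, 16, 32, 64, 6, 12, 24, 48, 96, 192} : Finset ℕ) by decide),
      Finset.sum_insert (show (2 : ℕ) ∉
        ({3, 4, 8, 16, 32, 64, 6, 12, 24, 48, 96, 192} : Finset ℕ) by decide),
      Finset.sum_insert (show (3 : ℕ) ∉
        ({4, 8, 16, 32, 64, 6, 12, 24, 48, 96, 192} : Finset ℕ) by decide), c1, h2, c3] at h
    rw [hexp {4, 8, 16, 32, 64, 6, 12, 24, 48, 96, 192} (by decide)] at h
    simp at h
    convert h using 1
    ring
  have hsumK : (k 4 + k 8 + k 16 + k 32 + k 64) + (k 6 + k 12 + k 24 + k 48 + k 96 + k 192) +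
      (k 9 + k 18 + k 36 + k 72 + k 144 + k 288 + k 576 + k 27 + k 54 + k 108 + k 216 + k 432 +
        k 864 + k 1728) = 9 := by
    refine Eq.trans ?_ hK
    rw [show restSet = [4, 8, 16, 32, 64, 6, 12, 24, 48, 96, 192, 9, 18, 36, 72, 144, 288,
      576, 27, 54, 108, 216, 432, 864, 1728].toFinset from by decide,
      List.sum_toFinset _ (by decide)]
    simp only [List.map_cons, List.map_nil, List.sum_cons, List.sum_nil]
    omega
  have hmono : ∀ n d, n ∈ restSet → d ∈ restSet → d ∣ n → 0 < k n → 0 < k d := by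
    intro n d hn hd hdn hk'
    have hc : 0 < cnt G n := by rw [(hkv n hn).1]; omega
    have := H78.M22R.cnt_pos_of_dvd hc hdn
    rw [(hkv d hd).1] at this
    omega
  have hv' : ∀ n ∈ restSet, k n = 0 ∨ k n = 1 ∨ k n = 4 := fun n hn => (hkv n hn).2
  obtain ⟨e2, e6⟩ := arith_split h64 h192 hsumK
  have v4 := hv' 4 (by decide)
  have v8 := hv' 8 (by decide)
  have v16 := hv' 16 (by decide)
  have v32 := hv' 32 (by decide)
  have v64 := hv' 64 (by decide)
  have m8 := hmono 8 4 (by decide) (by decide) (by norm_num)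
  have m16 := hmono 16 8 (by decide) (by decide) (by norm_num)
  have m32 := hmono 32 16 (by decide) (by decide) (by norm_num)
  have m64 := hmono 64 32 (by decide) (by decide) (by norm_num)
  obtain ⟨z16, z32, z64⟩ := arith_two h32 e2 v4 v8 v16 v32 v64 m8 m16 m32 m64
  have v6 := hv' 6 (by decide)
  have v12 := hv' 12 (by decide)
  have v24 := hv' 24 (by decide)
  have m12 := hmono 12 6 (by decide) (by decide) (by norm_num)
  have m24 := hmono 24 12 (by decide) (by decide) (by norm_num)
  have m48 := hmono 48 16 (by decide) (by decide) (by norm_num)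
  have m96 := hmono 96 16 (by decide) (by decide) (by norm_num)
  have m192 := hmono 192 16 (by decide) (by decide) (by norm_num)
  clear h192 h64 h32 hexp hK hz4400 hz9504 hz17280 hsplit hPQ hPU hone hrest_of hrest htot hroots hv
  clear hatt hval hk ind
  have z48 : k 48 = 0 := by omega
  have z96 : k 96 = 0 := by omega
  have z192 : k 192 = 0 := by omega
  have e6' : k 6 + k 12 + k 24 = 4 := by omega
  have k6 : k 6 = 4 := (arith_six v6 v12 v24 m12 m24 e6').1
  obtain ⟨-, z12, z24⟩ := arith_six v6 v12 v24 m12 m24 e6'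
  have hzero : ∀ n ∈ restSet, n ≠ 4 → n ≠ 8 → n ≠ 6 → k n = 0 := by
    intro n hn
    simp only [restSet, Finset.mem_insert, Finset.mem_singleton] at hn
    rcases hn with h | h | h | h | h | h | h | h | h | h | h | h | h | h | h | h | h | h | h | h |
      h | h | h | h | h <;> subst h <;> intro _ _ _ <;> omega
  refine ⟨h2, by rw [(hkv 6 (by decide)).1, k6], fun g => ?_⟩
  have hgT := hT g
  by_contra hno
  have hgR : orderOf g ∈ restSet ∧ orderOf g ≠ 4 ∧ orderOf g ≠ 8 ∧ orderOf g ≠ 6 := by
    simp only [ordSet, restSet, Finset.mem_insert, Finset.mem_singleton] at hgT hno ⊢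
    refine ⟨?_, by omega, by omega, by omega⟩
    rcases hgT with e | e | e | e | e | e | h
    all_goals first
      | omega
      | exact h
  have := H78.M22R.cnt_pos.2 ⟨g, rfl⟩
  rw [(hkv _ hgR.1).1, hzero _ hgR.1 hgR.2.1 hgR.2.2.1 hgR.2.2.2] at this
  omega

/-- Simplicity. -/
theorem simple_of_nse (hcard : Nat.card G = 95040) (h2 : cnt G 2 = 891) (h3 : cnt G 3 = 4400)
    (h11 : cnt G 11 = 17280) (hc : ∀ z : G, orderOf z = 11 → Nat.card (cz z) = 11) :
    IsSimpleGroup G := by
  classical
  haveI : Fact (Nat.Prime 11) := ⟨by norm_num⟩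
  haveI : Nontrivial G := Finite.one_lt_card_iff_nontrivial.1 (by rw [hcard]; norm_num)
  have hmk : ∀ (N : Subgroup G) [N.Normal] (g : G), Nat.Coprime (orderOf g) N.index → g ∈ N := by
    intro N _ g h
    rw [← QuotientGroup.eq_one_iff, ← orderOf_eq_one_iff]
    exact Nat.eq_one_of_dvd_coprimes h (orderOf_map_dvd (QuotientGroup.mk' N) g)
      (by rw [index_eq_card]; exact orderOf_dvd_natCard _)
  refine ⟨fun N hN => ?_⟩
  by_cases hd : 11 ∣ Nat.card N
  · right
    have hm := N.card_mul_index
    rw [hcard] at hm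
    have hi11 : ¬ 11 ∣ N.index := by
      intro h
      have h2' : 11 * 11 ∣ Nat.card N * N.index := Nat.mul_dvd_mul hd h
      rw [hm] at h2'
      norm_num at h2'
    have hall : ∀ g : G, orderOf g = 11 → g ∈ N := fun g hg => hmk N g (by
      rw [hg]; exact (Nat.Prime.coprime_iff_not_dvd (by norm_num)).2 hi11)
    have hNc : cnt N 11 = 17280 := by
      rw [← h11]
      exact Nat.card_congr
        { toFun := fun g => ⟨(g.1 : G), by rw [Subgroup.orderOf_coe]; exact g.2⟩
          invFun := fun g => ⟨⟨g.1, hall g.1 g.2⟩, by rw [Subgroup.orderOf_mk]; exact g.2⟩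
          left_inv := fun g => rfl
          right_inv := fun g => rfl }
    have hdN : Nat.card N ∣ 95040 := Dvd.intro _ hm
    have hfN : (Nat.card N).factorization 11 = 1 := by
      refine le_antisymm ?_ ((Nat.Prime.pow_dvd_iff_le_factorization (by norm_num)
        Nat.card_pos.ne').1 (by simpa using hd))
      exact ((Nat.factorization_le_iff_dvd Nat.card_pos.ne' (by norm_num)).2 hdN 11).trans
        factorization_facts.2.le
    obtain ⟨g, hg⟩ := exists_prime_orderOf_dvd_card' (G := N) 11 hd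
    have h := cnt_eq_index hfN (zpowers g) (by rw [Nat.card_zpowers, hg])
    have hdvd := (normalizer (zpowers g : Set N)).card_mul_index
    rw [hNc] at h
    rw [show (normalizer (zpowers g : Set N)).index = 1728 by omega] at hdvd
    have h11dvd : 11 ∣ Nat.card (normalizer (zpowers g : Set N)) := by
      have := card_dvd_of_le (le_normalizer (H := zpowers g))
      rwa [Nat.card_zpowers, hg] at this
    have h19008 : 19008 ∣ Nat.card N := by
      rw [← hdvd]
      exact Nat.mul_dvd_mul_right h11dvd 1728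
    obtain ⟨j, hj⟩ := h19008
    rw [hj] at hm hdN
    have hj5 : j ∣ 5 := Nat.dvd_of_mul_dvd_mul_left (by norm_num : 0 < 19008) hdN
    rcases (Nat.dvd_prime (by norm_num)).1 hj5 with rfl | rfl
    · exfalso
      have hi : N.index = 5 := by omega
      have hle : ∑ n ∈ ({1, 2, 3, 11} : Finset ℕ), cnt G n ≤ Nat.card N := by
        haveI := Fintype.ofFinite G
        simp only [cnt, Nat.card_eq_fintype_card, Fintype.card_subtype]
        rw [← Finset.card_biUnion (fun a _ b _ hab => Finset.disjoint_left.2 fun g ha hb =>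
            hab ((Finset.mem_filter.1 ha).2.symm.trans (Finset.mem_filter.1 hb).2))]
        refine Finset.card_le_card fun g hg => ?_
        simp only [Finset.mem_biUnion, Finset.mem_filter, Finset.mem_univ, true_and] at hg ⊢
        obtain ⟨n, hn, rfl⟩ := hg
        refine hmk N g ?_
        rw [hi]
        exact (show ∀ m ∈ ({1, 2, 3, 11} : Finset ℕ), Nat.Coprime m 5 by decide) _ hn
      simp [H78.M22R.cnt_one, h2, h3, h11, hj] at hle
    · rw [← index_eq_one]; omega
  · left
    by_contra hne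
    have h1 : Nat.card N ≠ 1 := fun h => hne (Subgroup.eq_bot_of_card_eq _ h)
    obtain ⟨p, hp, hpd⟩ := Nat.exists_prime_and_dvd h1
    haveI := Fact.mk hp
    obtain ⟨S⟩ : Nonempty (Sylow p N) := inferInstance
    have hsup := Sylow.normalizer_sup_eq_top S
    set T : Subgroup G := (S : Subgroup N).map N.subtype with hT
    set M := normalizer (T : Set G) with hM
    have hM11 : 11 ∣ Nat.card M := by
      have h : N.index ∣ Nat.card M := by
        have h1 : N.relIndex (M ⊔ N) = N.relIndex M := relIndex_sup_right _ _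
        rw [hsup, relIndex_top_right] at h1
        rw [h1]
        exact index_dvd_card _
      have hm := N.card_mul_index
      rw [hcard] at hm
      rcases (Nat.Prime.dvd_mul (by norm_num : Nat.Prime 11)).1
        (show 11 ∣ Nat.card N * N.index by rw [hm]; norm_num) with h' | h'
      · exact absurd h' hd
      · exact h'.trans h
    obtain ⟨w, hwM, hwo⟩ := H78.M22R.exists_orderOf 11 hM11
    have hTc : Nat.card T = Nat.card (S : Subgroup N) :=
      (Nat.card_congr ((S : Subgroup N).equivMapOfInjective _ N.subtype_injective).toEquiv).symm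
    have hTN : T ≤ N := Subgroup.map_subtype_le _
    -- `w` moves every non-identity element of `T`
    have hfix : ∀ t ∈ T, Commute t w → t = 1 := by
      intro t ht hc'
      have hd1 := Subgroup.orderOf_dvd_natCard _ (H78.M22R.mem_cz.2 hc')
      rw [hc w hwo] at hd1
      rcases (Nat.dvd_prime (by norm_num)).1 hd1 with e | e
      · exact orderOf_eq_one_iff.1 e
      · exact absurd (e ▸ Subgroup.orderOf_dvd_natCard N (hTN ht)) hd
    have hmod : Nat.card T ≡ 1 [MOD 11] := by
      let act : MulAction (zpowers w) T :=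
        { smul := fun a t => ⟨a.1 * t.1 * a.1⁻¹,
            (mem_normalizer_iff.1 ((zpowers_le.2 hwM) a.2) t.1).1 t.2⟩
          one_smul := fun t => Subtype.ext (show (1 : G) * t.1 * (1 : G)⁻¹ = t.1 by group)
          mul_smul := fun a b t => Subtype.ext
            (show (a.1 * b.1) * t.1 * (a.1 * b.1)⁻¹ = a.1 * (b.1 * t.1 * b.1⁻¹) * a.1⁻¹ by group) }
      have h := (H78.M22R.isPGroup_zpowers hwo).card_modEq_card_fixedPoints (α := T)
      have e : MulAction.fixedPoints (zpowers w) T = {⟨1, one_mem _⟩} := by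
        ext t
        simp only [MulAction.mem_fixedPoints, Set.mem_singleton_iff]
        constructor
        · intro h
          exact Subtype.ext (hfix t.1 t.2 (mul_inv_eq_iff_eq_mul.1
            (congrArg Subtype.val (h ⟨w, mem_zpowers w⟩))).symm)
        · rintro rfl a
          exact Subtype.ext (show a.1 * (1 : G) * a.1⁻¹ = 1 by group)
      rw [e] at h
      simpa using h
    have hTp : IsPGroup p T := S.2.map _
    obtain ⟨i, hi⟩ := IsPGroup.iff_card.1 hTp
    have hi0 : i ≠ 0 := by
      intro h0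
      have := S.dvd_card_of_dvd_card hpd
      rw [← hTc, hi, h0, pow_zero, Nat.dvd_one] at this
      exact hp.ne_one this
    have hdT : p ^ i ∣ 95040 := hi ▸ hcard ▸ card_subgroup_dvd_card T
    have hp11 : p ≠ 11 := fun e => hd (e ▸ hpd)
    rw [hi] at hmod
    have key : ∀ d ∈ Nat.divisors 8640, d % 11 = 1 → d ≠ 1 →
        ¬ d ∈ ({2, 4, 8, 16, 32, 64, 3, 9, 27, 5} : Finset ℕ) := by decide +kernel
    have hpp : p = 2 ∧ i ≤ 6 ∨ p = 3 ∧ i ≤ 3 ∨ p = 5 ∧ i ≤ 1 := by
      have hpd' : p ∣ 2 ^ 6 * 3 ^ 3 * 5 * 11 := (dvd_pow_self p hi0).trans (by simpa using hdT)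
      have hle := (Nat.Prime.pow_dvd_iff_le_factorization hp (by norm_num)).1 hdT
      have hf2 : (95040 : ℕ).factorization 2 = 6 := by
        rw [show (95040 : ℕ) = 2 ^ 6 * 1485 by norm_num, Nat.factorization_mul (by norm_num)
          (by norm_num), Nat.prime_two.factorization_pow]
        simp [Nat.factorization_eq_zero_of_not_dvd (show ¬ 2 ∣ 1485 by norm_num)]
      have hf3 : (95040 : ℕ).factorization 3 = 3 := by
        rw [show (95040 : ℕ) = 3 ^ 3 * 3520 by norm_num, Nat.factorization_mul (by norm_num)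
          (by norm_num), Nat.prime_three.factorization_pow]
        simp [Nat.factorization_eq_zero_of_not_dvd (show ¬ 3 ∣ 3520 by norm_num)]
      rcases (Nat.Prime.dvd_mul hp).1 hpd' with h | h
      · rcases (Nat.Prime.dvd_mul hp).1 h with h | h
        · rcases (Nat.Prime.dvd_mul hp).1 h with h | h
          · obtain rfl := (Nat.prime_dvd_prime_iff_eq hp Nat.prime_two).1 (hp.dvd_of_dvd_pow h)
            left; omega
          · obtain rfl := (Nat.prime_dvd_prime_iff_eq hp Nat.prime_three).1 (hp.dvd_of_dvd_pow h)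
            right; left; omega
        · obtain rfl := (Nat.prime_dvd_prime_iff_eq hp (by norm_num)).1 h
          right; right
          exact ⟨rfl, hle.trans factorization_facts.1.le⟩
      · exact absurd ((Nat.prime_dvd_prime_iff_eq hp (by norm_num)).1 h) hp11
    have hmod' : p ^ i % 11 = 1 := hmod
    rcases hpp with ⟨rfl, h⟩ | ⟨rfl, h⟩ | ⟨rfl, h⟩ <;> interval_cases i <;> simp at hmod' hi0 ⊢

/-- The basic facts. -/
theorem facts_of_nse (hcard : Nat.card G = 95040)
    (hnse : {c : ℕ | 0 < c ∧ ∃ n : ℕ, c = Nat.card {g : G // orderOf g = n}} = nseSet) :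
    Facts G := by
  have hval : ∀ n, 0 < cnt G n → cnt G n ∈ nseSet := fun n hn => hnse ▸ ⟨hn, n, rfl⟩
  obtain ⟨h2, h6, ho⟩ := orders_of_nse hcard hnse
  obtain ⟨h3, h5, h11, -, n5, n11, c5, c11⟩ := local_of_nse hcard hval
  exact ⟨hcard, h2, h3, h5, h6, ho, simple_of_nse hcard h2 h3 h11 c11, c5, n5, n11⟩

end H84.MTwelveNse
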